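import Groth.Agent.L10.CE.Step
import Groth.Prelude.Def_CE

/-! Cartan–Eilenberg resolutions. -/

universe v u

open CategoryTheory CategoryTheory.Limits HomologicalComplex ZeroObject

set_option backward.defeqAttrib.useBackward true
set_option backward.isDefEq.respectTransparency false
namespace Groth.L10.CEMain

open Groth.L10.CEStep

variable {A : Type u} [Category.{v} A] [Abelian A] [EnoughInjectives A] (K : CochainComplex A ℤ)

/-- The successive cokernels. -/
noncomputable def cok : ℕ → CochainComplex A ℤ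
  | 0 => K
  | k + 1 => (stp (cok k)).X₃

/-- The rows. -/
noncomputable def row : ℤ → CochainComplex A ℤ
  | Int.ofNat k => tgt (cok K k)
  | Int.negSucc _ => 0

/-- The vertical differential out of a nonnegative row. -/
noncomputable def dUp (k : ℕ) : tgt (cok K k) ⟶ tgt (cok K (k + 1)) := (stp (cok K k)).g ≫ map (cok K (k + 1))

/-- The vertical differential. -/
noncomputable def rowD : ∀ q : ℤ, row K q ⟶ row K (q + 1)
  | Int.ofNat k => dUp K k
  | Int.negSucc _ => 0

theorem dUp_sq (k : ℕ) : dUp K k ≫ dUp K (k + 1) = 0 := by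
  have h : map (cok K (k + 1)) ≫ (stp (cok K (k + 1))).g = 0 := (stp (cok K (k + 1))).zero
  simp only [dUp, Category.assoc]
  rw [reassoc_of% h, zero_comp, comp_zero]

theorem rowD_sq (q : ℤ) : rowD K q ≫ rowD K (q + 1) = 0 := by
  match q with
  | Int.ofNat k => exact dUp_sq K k
  | Int.negSucc k => exact zero_comp

/-- The Cartan–Eilenberg double complex. -/
noncomputable def bicx : CochainComplex (CochainComplex A ℤ) ℤ := CochainComplex.of (row K) (rowD K) (rowD_sq K)

theorem bicx_d_ofNat (k : ℕ) : (bicx K).d (k : ℤ) ((k : ℤ) + 1) = dUp K k := by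
  simp [bicx]; rfl

theorem isStrictlyGE_cok (n : ℤ) [K.IsStrictlyGE n] : ∀ k, (cok K k).IsStrictlyGE n
  | 0 => ‹_›
  | k + 1 => by
    have := isStrictlyGE_cok n k
    have := isStrictlyGE_tgt (cok K k) n
    rw [CochainComplex.isStrictlyGE_iff]
    intro i hi
    have : Epi ((stp (cok K k)).g.f i) := (shortExact_eval (cok K k) i).epi_g
    exact IsZero.of_epi ((stp (cok K k)).g.f i) (CochainComplex.isZero_of_isStrictlyGE (tgt (cok K k)) n i hi)

variable (G : CochainComplex A ℤ ⥤ A) [G.Additive]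
  (hG : ∀ K' : CochainComplex A ℤ, ((stp K').map G).ShortExact) (hI : ∀ K' : CochainComplex A ℤ, Injective (G.obj (tgt K')))

include hG hI in
theorem resolution (w : map K ≫ (bicx K).d 0 1 = 0) :
    CE.IsInjResolutionVia ((G.mapHomologicalComplex (ComplexShape.up ℤ)).obj (bicx K)) (G.obj K) (G.map (map K)) := by
  let Z := (G.mapHomologicalComplex (ComplexShape.up ℤ)).obj (bicx K)
  have hneg : ∀ k, IsZero (G.obj (row K (Int.negSucc k))) := fun k => G.map_isZero (Limits.isZero_zero _)
  have hd : ∀ k : ℕ, Z.d (k : ℤ) ((k : ℤ) + 1) = G.map (stp (cok K k)).g ≫ G.map (map (cok K (k + 1))) := fun k => by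
    change G.map ((bicx K).d _ _) = _
    rw [bicx_d_ofNat, dUp, G.map_comp]
  refine ⟨(G.map_comp _ _).symm.trans ((congrArg G.map w).trans (G.map_zero _ _)), ?_, fun q => ?_, fun q hq => ?_,
    (hG K).mono_f, ?_⟩
  · rw [CochainComplex.isStrictlyGE_iff]
    intro i hi
    match i, hi with
    | Int.negSucc k, _ => exact hneg k
  · match q with
    | Int.ofNat k => exact hI (cok K k)
    | Int.negSucc k => exact ⟨fun _ _ _ => ⟨0, (hneg k).eq_of_tgt _ _⟩⟩
  · match q with
    | Int.negSucc k => exact (exactAt_iff_isZero_homology _ _).2 (ShortComplex.isZero_homology_of_isZero_X₂ _ (hneg k))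
    | Int.ofNat 0 => exact absurd rfl hq
    | Int.ofNat (k + 1) =>
      change Z.ExactAt ((k + 1 : ℕ) : ℤ)
      rw [exactAt_iff' _ (k : ℤ) ((k + 1 : ℕ) : ℤ) ((k + 1 + 1 : ℕ) : ℤ) (by simp) (by simp),
        ShortComplex.exact_iff_exact_up_to_refinements]
      intro T x hx
      change T ⟶ G.obj (tgt (cok K (k + 1))) at x
      change x ≫ Z.d ((k + 1 : ℕ) : ℤ) (((k + 1 : ℕ) : ℤ) + 1) = 0 at hx
      rw [hd, ← Category.assoc] at hx
      have : Mono (G.map (map (cok K (k + 1 + 1)))) := (hG (cok K (k + 1 + 1))).mono_f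
      obtain ⟨T₁, e₁, he₁, y, hy⟩ := (ShortComplex.exact_iff_exact_up_to_refinements _).1 (hG (cok K (k + 1))).exact x
        ((cancel_mono (G.map (map (cok K (k + 1 + 1))))).1 (hx.trans zero_comp.symm))
      change e₁ ≫ x = y ≫ G.map (map (cok K (k + 1))) at hy
      have : Epi (G.map (stp (cok K k)).g) := (hG (cok K k)).epi_g
      obtain ⟨T₂, e₂, he₂, z, hz⟩ := surjective_up_to_refinements_of_epi (G.map (stp (cok K k)).g) y
      refine ⟨T₂, e₂ ≫ e₁, inferInstance, z, ?_⟩
      change (e₂ ≫ e₁) ≫ x = z ≫ Z.d (k : ℤ) ((k : ℤ) + 1)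
      rw [hd, Category.assoc, hy, reassoc_of% hz]
  · rw [ShortComplex.exact_iff_exact_up_to_refinements]
    intro T x hx
    change T ⟶ G.obj (tgt K) at x
    change x ≫ Z.d ((0 : ℕ) : ℤ) (((0 : ℕ) : ℤ) + 1) = 0 at hx
    rw [hd, ← Category.assoc] at hx
    have : Mono (G.map (map (cok K (0 + 1)))) := (hG (cok K (0 + 1))).mono_f
    exact (ShortComplex.exact_iff_exact_up_to_refinements _).1 (hG K).exact x
      ((cancel_mono (G.map (map (cok K (0 + 1))))).1 (hx.trans zero_comp.symm))

instance additive_cycles (p : ℤ) : (cyclesFunctor A (ComplexShape.up ℤ) p).Additive where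
  map_add {X Y f g} := by
    change cyclesMap (f + g) p = cyclesMap f p + cyclesMap g p
    rw [← cancel_mono (Y.iCycles p)]
    simp [Preadditive.add_comp]

theorem main_result (n : ℤ) [K.IsStrictlyGE n] :
    ∃ (I : CochainComplex (CochainComplex A ℤ) ℤ) (ε : K ⟶ I.X 0) (_hε : ε ≫ I.d 0 1 = 0),
      (∃ i : ℤ, ∀ p q : ℤ, p < i → IsZero ((I.X q).X p)) ∧
      (∀ p : ℤ, CE.IsInjResolutionVia (((eval A (ComplexShape.up ℤ) p).mapHomologicalComplex (ComplexShape.up ℤ)).obj I) (K.X p) (ε.f p)) ∧
      (∀ p : ℤ, CE.IsInjResolutionVia (((cyclesFunctor A (ComplexShape.up ℤ) p).mapHomologicalComplex (ComplexShape.up ℤ)).obj I) (K.cycles p) (cyclesMap ε p)) ∧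
      (∀ p : ℤ, CE.IsInjResolutionVia (((homologyFunctor A (ComplexShape.up ℤ) p).mapHomologicalComplex (ComplexShape.up ℤ)).obj I) (K.homology p) (homologyMap ε p)) := by
  have w : map K ≫ (bicx K).d 0 1 = 0 := by
    change map K ≫ (bicx K).d ((0 : ℕ) : ℤ) (((0 : ℕ) : ℤ) + 1) = 0
    rw [bicx_d_ofNat]
    exact (Category.assoc _ _ _).symm.trans ((congrArg (· ≫ map (cok K (0 + 1))) (stp K).zero).trans zero_comp)
  refine ⟨bicx K, map K, w, ⟨n, fun p q hp => ?_⟩, fun p => ?_, fun p => ?_, fun p => ?_⟩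
  · match q with
    | Int.negSucc k => exact (eval A (ComplexShape.up ℤ) p).map_isZero (Limits.isZero_zero _)
    | Int.ofNat k =>
      have := isStrictlyGE_cok K n k
      have := isStrictlyGE_tgt (cok K k) n
      exact CochainComplex.isZero_of_isStrictlyGE (tgt (cok K k)) n p hp
  · exact resolution K (eval A (ComplexShape.up ℤ) p) (fun K' => shortExact_eval K' p) (fun K' => injective_X K' p) w
  · exact resolution K (cyclesFunctor A (ComplexShape.up ℤ) p) (fun K' => shortExact_cycles K' p)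
      (fun K' => injective_cycles K' p) w
  · exact resolution K (homologyFunctor A (ComplexShape.up ℤ) p) (fun K' => shortExact_homology K' p)
      (fun K' => injective_homology K' p) w

end Groth.L10.CEMain
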