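import Mathlib.Algebra.Homology.Refinements
import Mathlib.Algebra.Homology.HomologySequence
import Mathlib.Algebra.Homology.HomologicalComplexAbelian
import Mathlib.CategoryTheory.Abelian.Refinements
import Mathlib.CategoryTheory.Abelian.Injective.Basic
import Mathlib.CategoryTheory.Preadditive.Injective.Basic
import Mathlib.Algebra.Homology.Embedding.IsSupported
import Mathlib.Algebra.Homology.Embedding.CochainComplex

/-! One step of a Cartan–Eilenberg resolution. -/

universe v u

open CategoryTheory CategoryTheory.Limits HomologicalComplex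

set_option backward.defeqAttrib.useBackward true
set_option backward.isDefEq.respectTransparency false
namespace Groth.L10.CEStep

variable {A : Type u} [Category.{v} A] [Abelian A] [EnoughInjectives A]

open Classical in
/-- An injective envelope-like object which is zero on zero objects. -/
noncomputable def J (X : A) : A := if IsZero X then X else Injective.under X

open Classical in
noncomputable def Jι (X : A) : X ⟶ J X :=
  if h : IsZero X then eqToHom (by simp [J, h]) else Injective.ι X ≫ eqToHom (by simp [J, h])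

instance (X : A) : Injective (J X) := by
  unfold J; split
  · rename_i h; exact ⟨fun g f _ => ⟨0, h.eq_of_tgt _ _⟩⟩
  · infer_instance

instance (X : A) : Mono (Jι X) := by
  unfold Jι; split <;> infer_instance

theorem isZero_J {X : A} (h : IsZero X) : IsZero (J X) := by simp [J, h]

variable (K : CochainComplex A ℤ)

noncomputable abbrev JB (p : ℤ) : A := J (Abelian.image (K.d (p - 1) p))

noncomputable abbrev JH (p : ℤ) : A := J (K.homology p)

noncomputable def α (p : ℤ) : K.X p ⟶ JB K p :=
  Injective.factorThru (Jι _) (Abelian.image.ι (K.d (p - 1) p))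

noncomputable def γ (p : ℤ) : K.X p ⟶ JH K p :=
  Injective.factorThru (K.homologyπ p ≫ Jι _) (K.iCycles p)

theorem iCycles_γ (p : ℤ) : K.iCycles p ≫ γ K p = K.homologyπ p ≫ Jι _ := Injective.comp_factorThru _ _

theorem d_α_zero {m p : ℤ} (h : m + 1 = p) {T : A} (t : T ⟶ K.X m) (h0 : t ≫ K.d m p ≫ α K p = 0) :
    t ≫ K.d m p = 0 := by
  obtain rfl : m = p - 1 := by omega
  have hα : Abelian.image.ι (K.d (p - 1) p) ≫ α K p = Jι _ := Injective.comp_factorThru _ _
  rw [← Abelian.image.fac (K.d (p - 1) p), Category.assoc, hα, ← Category.assoc] at h0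
  rw [← Abelian.image.fac (K.d (p - 1) p), ← Category.assoc, (cancel_mono (Jι _)).1 (h0.trans zero_comp.symm), zero_comp]

theorem d_γ (m p : ℤ) : K.d m p ≫ γ K p = 0 := by
  rw [← toCycles_i, Category.assoc, iCycles_γ, toCycles_comp_homologyπ_assoc, zero_comp]

theorem γ_zero {p m : ℤ} (hm : m + 1 = p) {T : A} (x : T ⟶ K.X p) (hx : x ≫ K.d p (p + 1) = 0)
    (h0 : x ≫ γ K p = 0) : ∃ (T' : A) (e : T' ⟶ T) (_ : Epi e) (t : T' ⟶ K.X m), e ≫ x = t ≫ K.d m p := by
  have hz : K.liftCycles x (p + 1) (by simp) hx ≫ K.homologyπ p = 0 := by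
    rw [← cancel_mono (Jι (K.homology p)), Category.assoc, ← iCycles_γ, liftCycles_i_assoc, h0, zero_comp]
  exact (K.liftCycles_comp_homologyπ_eq_zero_iff_up_to_refinements m p (p + 1) (by simp; omega) (by simp) x hx).1 hz

/-- The target of one step. -/
noncomputable def tgt : CochainComplex A ℤ :=
  CochainComplex.of (fun p => JB K p ⊞ (JH K p ⊞ JB K (p + 1))) (fun _ => biprod.snd ≫ biprod.snd ≫ biprod.inl)
    (fun _ => by simp)

noncomputable def thd (p : ℤ) : (tgt K).X p ⟶ JB K (p + 1) := biprod.snd ≫ biprod.snd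
noncomputable def mid (p : ℤ) : (tgt K).X p ⟶ JH K p := biprod.snd ≫ biprod.fst
noncomputable def fst (p : ℤ) : (tgt K).X p ⟶ JB K p := biprod.fst

theorem tgt_d (p : ℤ) : (tgt K).d p (p + 1) = thd K p ≫ biprod.inl := by simp [tgt, thd]

theorem d_mid (m p : ℤ) : (tgt K).d m p ≫ mid K p = 0 := by
  by_cases h : m + 1 = p
  · subst h; rw [tgt_d]; simp [mid]
  · rw [(tgt K).shape m p h, zero_comp]

theorem tgt_ext {T : A} {p : ℤ} {x y : T ⟶ (tgt K).X p} (h₁ : x ≫ fst K p = y ≫ fst K p)
    (h₂ : x ≫ mid K p = y ≫ mid K p) (h₃ : x ≫ thd K p = y ≫ thd K p) : x = y := by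
  apply biprod.hom_ext
  · exact h₁
  · apply biprod.hom_ext
    · simpa [mid] using h₂
    · simpa [thd] using h₃

/-- The map to the target. -/
noncomputable def map : K ⟶ tgt K where
  f p := biprod.lift (α K p) (biprod.lift (γ K p) (K.d p (p + 1) ≫ α K (p + 1)))
  comm' i j hij := by
    obtain rfl : i + 1 = j := hij
    rw [tgt_d]
    apply tgt_ext K <;> simp [fst, mid, thd, d_γ]

theorem map_fst (p : ℤ) : (map K).f p ≫ fst K p = α K p := biprod.lift_fst _ _
theorem map_mid (p : ℤ) : (map K).f p ≫ mid K p = γ K p := by simp [map, mid]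
theorem map_thd (p : ℤ) : (map K).f p ≫ thd K p = K.d p (p + 1) ≫ α K (p + 1) := by simp [map, thd]

instance mono_map_f (p : ℤ) : Mono ((map K).f p) := by
  refine Preadditive.mono_of_cancel_zero _ fun {T} x hx => ?_
  have hd : x ≫ K.d p (p + 1) = 0 := d_α_zero K rfl x (by rw [← map_thd, reassoc_of% hx, zero_comp])
  obtain ⟨T', e, _, t, ht⟩ := γ_zero K (m := p - 1) (by omega) x hd (by rw [← map_mid, reassoc_of% hx, zero_comp])
  rw [← cancel_epi e, comp_zero, ht]
  refine d_α_zero K (by omega) t ?_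
  rw [← reassoc_of% ht, ← map_fst, reassoc_of% hx, zero_comp, comp_zero]

instance : Mono (map K) := HomologicalComplex.mono_of_mono_f _ inferInstance

theorem cycle_thd (p : ℤ) : (tgt K).iCycles p ≫ thd K p = 0 := by
  have h := (tgt K).iCycles_d p (p + 1)
  rw [tgt_d] at h
  have := h =≫ fst K (p + 1)
  simpa [fst] using this

instance injective_X (p : ℤ) : Injective ((tgt K).X p) :=
  inferInstanceAs (Injective (JB K p ⊞ (JH K p ⊞ JB K (p + 1))))

instance injective_cycles (p : ℤ) : Injective ((tgt K).cycles p) := by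
  let q : (tgt K).X p ⟶ (tgt K).X p := biprod.lift (fst K p) (biprod.lift (mid K p) 0)
  have hq : q ≫ (tgt K).d p (p + 1) = 0 := by rw [tgt_d]; simp [q, thd]
  refine Retract.injective (Y := (tgt K).X p) ⟨(tgt K).iCycles p, (tgt K).liftCycles q (p + 1) (by simp) hq, ?_⟩
  rw [← cancel_mono ((tgt K).iCycles p), Category.assoc, liftCycles_i, Category.id_comp]
  apply tgt_ext K <;> simp [q, fst, mid, thd, Category.assoc]
  simpa [thd] using (cycle_thd K p).symm

instance mono_cyclesMap (p : ℤ) : Mono (cyclesMap (map K) p) := by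
  have : Mono (cyclesMap (map K) p ≫ (tgt K).iCycles p) := by rw [cyclesMap_i]; infer_instance
  exact mono_of_mono _ ((tgt K).iCycles p)

theorem homologyπ_ext (p : ℤ) {T : A} (z z' : T ⟶ (tgt K).cycles p)
    (h : z ≫ (tgt K).iCycles p ≫ mid K p = z' ≫ (tgt K).iCycles p ≫ mid K p) :
    z ≫ (tgt K).homologyπ p = z' ≫ (tgt K).homologyπ p := by
  obtain ⟨m, rfl⟩ : ∃ m, p = m + 1 := ⟨p - 1, by omega⟩
  rw [(tgt K).comp_homologyπ_eq_iff_up_to_refinements m (m + 1) (by simp) z z']
  refine ⟨T, 𝟙 T, inferInstance,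
    biprod.lift 0 (biprod.lift 0 ((z - z') ≫ (tgt K).iCycles (m + 1) ≫ fst K (m + 1))), ?_⟩
  rw [← cancel_mono ((tgt K).iCycles (m + 1)), Preadditive.add_comp, Category.assoc _ ((tgt K).toCycles _ _) _,
    toCycles_i, tgt_d]
  apply tgt_ext K <;>
    simp [fst, mid, thd, Category.assoc, Preadditive.add_comp, Preadditive.sub_comp] <;>
    first
      | (simpa [mid] using h)
      | (have h3 := cycle_thd K (m + 1); simp [thd] at h3; simp [h3])

instance injective_homology (p : ℤ) : Injective ((tgt K).homology p) := by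
  let i₀ : JH K p ⟶ (tgt K).X p := biprod.lift 0 (biprod.lift (𝟙 _) 0)
  have hi : i₀ ≫ (tgt K).d p (p + 1) = 0 := by rw [tgt_d]; simp [i₀, thd]
  have hd : (tgt K).d ((ComplexShape.up ℤ).prev p) p ≫ mid K p = 0 := d_mid K _ _
  let r : (tgt K).homology p ⟶ JH K p := (tgt K).homologyι p ≫ (tgt K).descOpcycles (mid K p) _ rfl hd
  have hπr : (tgt K).homologyπ p ≫ r = (tgt K).iCycles p ≫ mid K p := by simp [r]
  refine Retract.injective (Y := JH K p) ⟨r, (tgt K).liftCycles i₀ (p + 1) (by simp) hi ≫ (tgt K).homologyπ p, ?_⟩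
  rw [← cancel_epi ((tgt K).homologyπ p), reassoc_of% hπr, Category.comp_id,
    ← Category.assoc ((tgt K).iCycles p), ← Category.assoc]
  refine (homologyπ_ext K p _ (𝟙 _) ?_).trans (Category.id_comp _)
  simp [i₀, mid]

instance mono_homologyMap (p : ℤ) : Mono (homologyMap (map K) p) := by
  rw [mono_homologyMap_iff_up_to_refinements _ (p - 1) p (p + 1) (by simp) (by simp)]
  intro T x hx y hy
  refine γ_zero K (m := p - 1) (by omega) x hx ?_
  rw [← map_mid, reassoc_of% hy, d_mid, comp_zero]

theorem isStrictlyGE_tgt (n : ℤ) [K.IsStrictlyGE n] : (tgt K).IsStrictlyGE n := by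
  rw [CochainComplex.isStrictlyGE_iff]
  intro i hi
  have hX : ∀ j, j < n → IsZero (K.X j) := fun j hj => CochainComplex.isZero_of_isStrictlyGE K n j hj
  have hB : ∀ j, j ≤ n → IsZero (JB K j) := fun j hj => isZero_J
    (IsZero.of_epi (Abelian.factorThruImage (K.d (j - 1) j)) (hX (j - 1) (by omega)))
  have hH : IsZero (JH K i) := isZero_J ((exactAt_iff_isZero_homology _ _).1
    ((CochainComplex.exactAt_of_isGE K n i (by omega))))
  change IsZero (JB K i ⊞ (JH K i ⊞ JB K (i + 1)))
  simp only [biprod_isZero_iff]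
  exact ⟨hB i (by omega), hH, hB (i + 1) (by omega)⟩

/-- The short exact sequence of a step. -/
noncomputable def stp : ShortComplex (CochainComplex A ℤ) := ShortComplex.mk (map K) (cokernel.π _) (cokernel.condition _)

theorem stp_shortExact : (stp K).ShortExact :=
  { exact := ShortComplex.exact_cokernel _, mono_f := inferInstanceAs (Mono (map K)),
    epi_g := inferInstanceAs (Epi (cokernel.π (map K))) }

theorem shortExact_eval (p : ℤ) : ((stp K).map (eval A (ComplexShape.up ℤ) p)).ShortExact :=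
  (stp_shortExact K).map_of_exact _

theorem shortExact_homology (p : ℤ) : ((stp K).map (homologyFunctor A (ComplexShape.up ℤ) p)).ShortExact := by
  have h := stp_shortExact K
  refine { exact := h.homology_exact₂ p, mono_f := mono_homologyMap K p, epi_g := ?_ }
  have hδ : h.δ p (p + 1) rfl = 0 := by
    have : Mono (homologyMap (stp K).f (p + 1)) := mono_homologyMap K (p + 1)
    rw [← cancel_mono (homologyMap (stp K).f (p + 1)), h.δ_comp, zero_comp]
  exact (h.homology_exact₃ p (p + 1) rfl).epi_f hδ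

theorem shortExact_cycles (p : ℤ) : ((stp K).map (cyclesFunctor A (ComplexShape.up ℤ) p)).ShortExact := by
  have h := stp_shortExact K
  have hm : Mono ((stp K).map (cyclesFunctor A (ComplexShape.up ℤ) p)).f := mono_cyclesMap K p
  refine { exact := ?_, mono_f := hm, epi_g := ?_ }
  · rw [ShortComplex.exact_iff_exact_up_to_refinements]
    intro T z hz
    change T ⟶ (tgt K).cycles p at z
    change z ≫ cyclesMap (cokernel.π (map K)) p = 0 at hz
    have hz' : (z ≫ (tgt K).iCycles p) ≫ (cokernel.π (map K)).f p = 0 := by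
      rw [Category.assoc, ← cyclesMap_i, reassoc_of% hz, zero_comp]
    obtain ⟨T', e, he, x, hx⟩ := (ShortComplex.exact_iff_exact_up_to_refinements _).1 (shortExact_eval K p).exact _ hz'
    change e ≫ z ≫ (tgt K).iCycles p = x ≫ (map K).f p at hx
    have hxd : x ≫ K.d p (p + 1) = 0 := by
      rw [← cancel_mono ((map K).f (p + 1)), Category.assoc, ← (map K).comm, ← reassoc_of% hx]
      simp
    refine ⟨T', e, he, K.liftCycles x (p + 1) (by simp) hxd, ?_⟩
    change e ≫ z = _ ≫ cyclesMap (map K) p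
    rw [← cancel_mono ((tgt K).iCycles p), Category.assoc, hx]
    simp
  · rw [epi_iff_surjective_up_to_refinements]
    intro T z
    change T ⟶ (stp K).X₃.cycles p at z
    have : Epi (homologyMap (stp K).g p) := (shortExact_homology K p).epi_g
    obtain ⟨T₁, e₁, he₁, w, hw⟩ := surjective_up_to_refinements_of_epi (homologyMap (stp K).g p)
      (z ≫ (stp K).X₃.homologyπ p)
    obtain ⟨T₂, e₂, he₂, v, hv⟩ := surjective_up_to_refinements_of_epi ((stp K).X₂.homologyπ p) w
    obtain ⟨T₃, e₃, he₃, c, hc⟩ := ((stp K).X₃.comp_homologyπ_eq_iff_up_to_refinements (p - 1) p (by simp)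
      ((e₂ ≫ e₁) ≫ z) (v ≫ cyclesMap (stp K).g p)).1 (by
        simp only [Category.assoc]
        rw [hw, reassoc_of% hv, homologyπ_naturality])
    have : Epi ((stp K).g.f (p - 1)) := (shortExact_eval K (p - 1)).epi_g
    obtain ⟨T₄, e₄, he₄, c', hc'⟩ := surjective_up_to_refinements_of_epi ((stp K).g.f (p - 1)) c
    refine ⟨T₄, e₄ ≫ e₃ ≫ e₂ ≫ e₁, inferInstance,
      e₄ ≫ e₃ ≫ v + c' ≫ (stp K).X₂.toCycles (p - 1) p, ?_⟩
    change _ = _ ≫ cyclesMap (stp K).g p
    simp only [Category.assoc] at hc ⊢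
    rw [hc, Preadditive.comp_add, reassoc_of% hc', Preadditive.add_comp, Category.assoc, Category.assoc, Category.assoc]
    congr 2
    rw [← cancel_mono ((stp K).X₃.iCycles p)]
    simp

end Groth.L10.CEStep
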